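import Groth.Agent.Lib.GenSmooth18.Rank
import Groth.Agent.Lib.VarDim.Alg
import Mathlib

/-!
The fibres of the differentials are at least as big as the dimension.
-/

set_option autoImplicit false
set_option linter.style.haveILetI false
universe u
open scoped TensorProduct

namespace OmegaRank13

variable {k : Type u} [Field k]

theorem trdeg_le_finrank (K : Type u) [Field K] [Algebra k K] [Algebra.EssFiniteType k K] :
    Algebra.trdeg k K ≤ (Module.finrank K (Ω[K⁄k]) : Cardinal) := by
  classical
  let kb := AlgebraicClosure k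
  obtain ⟨m, hm⟩ := Ideal.exists_maximal (kb ⊗[k] K)
  letI : Field ((kb ⊗[k] K) ⧸ m) := Ideal.Quotient.field m
  let K' := (kb ⊗[k] K) ⧸ m
  let f : K →ₐ[k] K' := (Ideal.Quotient.mkₐ k m).comp Algebra.TensorProduct.includeRight
  letI : Algebra K K' := f.toRingHom.toAlgebra
  haveI : IsScalarTower k K K' := IsScalarTower.of_algHom f
  haveI : IsScalarTower k kb K' := inferInstance
  haveI : Algebra.EssFiniteType kb K' := inferInstance
  have h1 : Algebra.trdeg k K ≤ Algebra.trdeg kb K' := by
    have hinj : Function.Injective f := f.toRingHom.injective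
    refine (trdeg_le_of_injective f hinj).trans ?_
    rw [← trdeg_add_eq k kb (A := K'), trdeg_eq_zero, zero_add]
  refine h1.trans ?_
  rw [← Groth.Agent.GenSmooth18.rank_kaehler_eq_trdeg kb K']
  let φ : Ω[K⁄k] →ₗ[K] Ω[K'⁄kb] := KaehlerDifferential.map k kb K K'
  let b := Module.finBasis K (Ω[K⁄k])
  have hall : ∀ ω, φ ω ∈ Submodule.span K' (Set.range fun i => φ (b i)) := by
    intro ω
    rw [← b.sum_repr ω, map_sum]
    refine Submodule.sum_mem _ fun i _ => ?_
    rw [map_smul, ← algebraMap_smul K' (b.repr ω i)]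
    exact Submodule.smul_mem _ _ (Submodule.subset_span ⟨i, rfl⟩)
  have hspan : Submodule.span K' (Set.range fun i => φ (b i)) = ⊤ := by
    rw [eq_top_iff, ← KaehlerDifferential.span_range_derivation, Submodule.span_le]
    rintro _ ⟨y, rfl⟩
    obtain ⟨z, rfl⟩ := Ideal.Quotient.mk_surjective y
    induction z using TensorProduct.induction_on with
    | zero => rw [map_zero, map_zero]; exact Submodule.zero_mem _
    | add x y hx hy => rw [map_add, map_add]; exact Submodule.add_mem _ hx hy
    | tmul c x =>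
      have he : (Ideal.Quotient.mk m (c ⊗ₜ[k] x) : K') = c • f x := by
        show _ = c • Ideal.Quotient.mk m ((1 : kb) ⊗ₜ[k] x)
        rw [← Ideal.Quotient.mkₐ_eq_mk kb, ← map_smul, TensorProduct.smul_tmul', smul_eq_mul, mul_one]
      rw [he, Derivation.map_smul]
      refine Submodule.smul_of_tower_mem _ _ ?_
      have := hall (KaehlerDifferential.D k K x)
      rw [KaehlerDifferential.map_D] at this
      exact this
  calc Module.rank K' (Ω[K'⁄kb]) = Module.rank K' (Submodule.span K' (Set.range fun i => φ (b i))) := by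
        rw [hspan, rank_top]
    _ ≤ Cardinal.mk (Set.range fun i => φ (b i)) := rank_span_le _
    _ ≤ Cardinal.lift.{u} (Cardinal.mk (Fin (Module.finrank K (Ω[K⁄k])))) := by
        simpa using Cardinal.mk_range_le_lift (f := fun i => φ (b i))
    _ = _ := by simp

variable (A : Type u) [CommRing A] [Algebra k A] [Algebra.FiniteType k A]

theorem main (n : ℕ) (P : Ideal A) [P.IsPrime] (q : Ideal A) [q.IsPrime] (hqP : q ≤ P)
    (hq : (n : WithBot ℕ∞) ≤ ringKrullDim (A ⧸ q)) :
    n ≤ Module.finrank P.ResidueField (P.ResidueField ⊗[A] (Ω[A⁄k])) := by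
  classical
  haveI : Algebra.FiniteType k (A ⧸ q) :=
    Algebra.FiniteType.of_surjective (Ideal.Quotient.mkₐ k q) Ideal.Quotient.mk_surjective
  let K := q.ResidueField
  haveI : Algebra.EssFiniteType k A := inferInstance
  haveI : Algebra.EssFiniteType k K := .comp k A K
  have htr : (n : Cardinal) ≤ Algebra.trdeg k K := by
    rw [Groth.Agent.VarDim.ringKrullDim_eq_tdeg k (A ⧸ q)] at hq
    haveI : Algebra.IsAlgebraic (A ⧸ q) K := IsLocalization.isAlgebraic K (nonZeroDivisors (A ⧸ q))
    haveI : FaithfulSMul (A ⧸ q) K :=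
      (faithfulSMul_iff_algebraMap_injective _ _).mpr (IsFractionRing.injective (A ⧸ q) K)
    rw [← trdeg_add_eq k (A ⧸ q) (A := K), trdeg_eq_zero (R := A ⧸ q) (A := K), add_zero, Groth.Agent.VarDim.trdeg_eq_tdeg k (A ⧸ q)]
    exact_mod_cast hq
  have hK := htr.trans (trdeg_le_finrank K)
  rw [Nat.cast_le] at hK
  refine hK.trans ?_
  let V := P.ResidueField ⊗[A] (Ω[A⁄k])
  let g : Ω[A⁄k] →ₗ[A] V := TensorProduct.mk A P.ResidueField _ 1
  have hg : Submodule.span P.ResidueField (Set.range g) = ⊤ := by
    rw [eq_top_iff]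
    intro v _
    induction v using TensorProduct.induction_on with
    | zero => exact Submodule.zero_mem _
    | add x y hx hy => exact Submodule.add_mem _ (hx trivial) (hy trivial)
    | tmul c ω =>
      rw [show (c ⊗ₜ[A] ω : V) = c • g ω from (by rw [TensorProduct.mk_apply, TensorProduct.smul_tmul', smul_eq_mul, mul_one])]
      exact Submodule.smul_mem _ _ (Submodule.subset_span ⟨ω, rfl⟩)
  obtain ⟨T, hTsub, hTspan, hTli⟩ := exists_linearIndependent P.ResidueField (Set.range g)
  haveI := hTli.finite
  haveI : Fintype T := Fintype.ofFinite T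
  have hcard : Fintype.card T = Module.finrank P.ResidueField V := by
    let bT := Module.Basis.mk hTli (by rw [Subtype.range_coe, hTspan, hg])
    exact (Module.finrank_eq_card_basis bT).symm
  choose s hs using fun v : T => hTsub v.2
  let N := Submodule.span A (Set.range s)
  haveI : Module.Finite A (Ω[A⁄k]) := inferInstance
  have hsupp : (⟨P, ‹_›⟩ : PrimeSpectrum A) ∉ Module.support A (Ω[A⁄k] ⧸ N) := by
    rw [Module.mem_support_iff_nontrivial_residueField_tensorProduct, not_nontrivial_iff_subsingleton]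
    let π : V →ₗ[P.ResidueField] P.ResidueField ⊗[A] (Ω[A⁄k] ⧸ N) :=
      TensorProduct.AlgebraTensorModule.map LinearMap.id N.mkQ
    have hπ : Function.Surjective π := LinearMap.lTensor_surjective _ N.mkQ_surjective
    have hle : Submodule.span P.ResidueField T ≤ LinearMap.ker π := by
      rw [Submodule.span_le]
      intro v hv
      show π v = 0
      rw [← show g (s ⟨v, hv⟩) = v from hs ⟨v, hv⟩]
      show (1 : P.ResidueField) ⊗ₜ[A] N.mkQ (s ⟨v, hv⟩) = 0
      rw [Submodule.mkQ_apply, (Submodule.Quotient.mk_eq_zero N).mpr (Submodule.subset_span ⟨_, rfl⟩),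
        TensorProduct.tmul_zero]
    refine subsingleton_of_forall_eq 0 fun z => ?_
    obtain ⟨v, rfl⟩ := hπ z
    exact hle (hTspan.symm ▸ hg.symm ▸ Submodule.mem_top)
  have hsq : (⟨q, ‹_›⟩ : PrimeSpectrum A) ∉ Module.support A (Ω[A⁄k] ⧸ N) :=
    fun h => hsupp (Module.mem_support_mono hqP h)
  let φ : Ω[A⁄k] →ₗ[A] Ω[K⁄k] := KaehlerDifferential.map k k A K
  let W := Submodule.span K (Set.range fun v : T => φ (s v))
  have hW : ∀ ω, φ ω ∈ W := by
    intro ω
    rw [Module.notMem_support_iff'] at hsq
    obtain ⟨r, hr, hrω⟩ := hsq (Submodule.Quotient.mk ω)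
    rw [← Submodule.Quotient.mk_smul, Submodule.Quotient.mk_eq_zero] at hrω
    have h1 : φ (r • ω) ∈ W := by
      have : N ≤ (W.restrictScalars A).comap φ := by
        rw [Submodule.span_le]
        rintro _ ⟨v, rfl⟩
        exact Submodule.subset_span ⟨v, rfl⟩
      exact this hrω
    rw [map_smul, ← algebraMap_smul K r] at h1
    have hr0 : algebraMap A K r ≠ 0 := by rwa [ne_eq, Ideal.algebraMap_residueField_eq_zero]
    exact (Submodule.smul_mem_iff W hr0).mp h1
  have hWtop : W = ⊤ := by
    rw [eq_top_iff, ← KaehlerDifferential.span_range_derivation, Submodule.span_le]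
    rintro _ ⟨y, rfl⟩
    obtain ⟨a, b, hb, rfl⟩ := IsFractionRing.div_surjective (A ⧸ q) y
    obtain ⟨a, rfl⟩ := Ideal.Quotient.mk_surjective a
    obtain ⟨b, rfl⟩ := Ideal.Quotient.mk_surjective b
    have ha' : algebraMap (A ⧸ q) K (Ideal.Quotient.mk q a) = algebraMap A K a :=
      (IsScalarTower.algebraMap_apply A (A ⧸ q) K a).symm
    have hb' : algebraMap (A ⧸ q) K (Ideal.Quotient.mk q b) = algebraMap A K b :=
      (IsScalarTower.algebraMap_apply A (A ⧸ q) K b).symm
    rw [ha', hb', div_eq_mul_inv, Derivation.leibniz, Derivation.leibniz_inv]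
    have hDa := hW (KaehlerDifferential.D k A a)
    have hDb := hW (KaehlerDifferential.D k A b)
    rw [KaehlerDifferential.map_D] at hDa hDb
    exact W.add_mem (W.smul_mem _ (W.smul_mem _ hDb)) (W.smul_mem _ hDa)
  rw [← hcard, ← finrank_top K (Ω[K⁄k]), ← hWtop]
  exact finrank_range_le_card _

end OmegaRank13
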