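import Groth.Agent.Lib.OmegaRank13.Basic
import Groth.Agent.Lib.RegSmooth17.Basic
import Groth.Agent.Lib.RegLoc.GlobalDim
import Groth.Agent.Lib.RegCpl3.Basic

/-!
Regularity of an irreducible affine algebra through its differentials.
-/

set_option autoImplicit false
set_option linter.style.haveILetI false
universe u v
open scoped TensorProduct

namespace OmegaRank13

theorem exists_generators {A : Type u} [CommRing A] {M : Type u} [AddCommGroup M] [Module A M]
    [Module.Finite A M] (P : Ideal A) [P.IsPrime] :
    ∃ s : Fin (Module.finrank P.ResidueField (P.ResidueField ⊗[A] M)) → M,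
      ∀ m : M, ∃ r ∉ P, r • m ∈ Submodule.span A (Set.range s) := by
  classical
  let V := P.ResidueField ⊗[A] M
  let g : M →ₗ[A] V := TensorProduct.mk A P.ResidueField _ 1
  have hg : Submodule.span P.ResidueField (Set.range g) = ⊤ := by
    rw [eq_top_iff]
    intro v _
    induction v using TensorProduct.induction_on with
    | zero => exact Submodule.zero_mem _
    | add x y hx hy => exact Submodule.add_mem _ (hx trivial) (hy trivial)
    | tmul c ω =>
      rw [show (c ⊗ₜ[A] ω : V) = c • g ω from
        (by rw [TensorProduct.mk_apply, TensorProduct.smul_tmul', smul_eq_mul, mul_one])]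
      exact Submodule.smul_mem _ _ (Submodule.subset_span ⟨ω, rfl⟩)
  obtain ⟨T, hTsub, hTspan, hTli⟩ := exists_linearIndependent P.ResidueField (Set.range g)
  haveI := hTli.finite
  haveI : Fintype T := Fintype.ofFinite T
  have hcard : Fintype.card T = Module.finrank P.ResidueField V := by
    let bT := Module.Basis.mk hTli (by rw [Subtype.range_coe, hTspan, hg])
    exact (Module.finrank_eq_card_basis bT).symm
  choose s hs using fun v : T => hTsub v.2
  let e : Fin (Module.finrank P.ResidueField V) ≃ T := (Fintype.equivFinOfCardEq hcard).symm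
  refine ⟨fun i => s (e i), ?_⟩
  let N := Submodule.span A (Set.range s)
  have hsupp : (⟨P, ‹_›⟩ : PrimeSpectrum A) ∉ Module.support A (M ⧸ N) := by
    rw [Module.mem_support_iff_nontrivial_residueField_tensorProduct, not_nontrivial_iff_subsingleton]
    let π : V →ₗ[P.ResidueField] P.ResidueField ⊗[A] (M ⧸ N) :=
      TensorProduct.AlgebraTensorModule.map LinearMap.id N.mkQ
    have hπ : Function.Surjective π := LinearMap.lTensor_surjective _ N.mkQ_surjective
    have hle : Submodule.span P.ResidueField T ≤ LinearMap.ker π := by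
      rw [Submodule.span_le]
      intro v hv
      show π v = 0
      rw [← show g (s ⟨v, hv⟩) = v from hs ⟨v, hv⟩]
      show (1 : P.ResidueField) ⊗ₜ[A] N.mkQ (s ⟨v, hv⟩) = 0
      rw [Submodule.mkQ_apply, (Submodule.Quotient.mk_eq_zero N).mpr (Submodule.subset_span ⟨_, rfl⟩),
        TensorProduct.tmul_zero]
    refine subsingleton_of_forall_eq 0 fun z => ?_
    obtain ⟨v, rfl⟩ := hπ z
    exact hle (hTspan.symm ▸ hg.symm ▸ Submodule.mem_top)
  intro m
  rw [Module.notMem_support_iff'] at hsupp
  obtain ⟨r, hr, hrm⟩ := hsupp (Submodule.Quotient.mk m)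
  rw [← Submodule.Quotient.mk_smul, Submodule.Quotient.mk_eq_zero] at hrm
  refine ⟨r, hr, ?_⟩
  rwa [show (fun i => s (e i)) = s ∘ e from rfl, e.surjective.range_comp]

theorem finrank_le {A : Type u} [CommRing A] {M : Type u} [AddCommGroup M] [Module A M]
    (P : Ideal A) [P.IsPrime] {d : ℕ} (s : Fin d → M)
    (h : ∀ m : M, ∃ r ∉ P, r • m ∈ Submodule.span A (Set.range s)) :
    Module.finrank P.ResidueField (P.ResidueField ⊗[A] M) ≤ d := by
  classical
  let g : M →ₗ[A] P.ResidueField ⊗[A] M := TensorProduct.mk A P.ResidueField _ 1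
  have htop : Submodule.span P.ResidueField (Set.range fun i => g (s i)) = ⊤ := by
    rw [eq_top_iff]
    intro v _
    induction v using TensorProduct.induction_on with
    | zero => exact Submodule.zero_mem _
    | add x y hx hy => exact Submodule.add_mem _ (hx trivial) (hy trivial)
    | tmul c m =>
      obtain ⟨r, hr, hrm⟩ := h m
      have h1 : g (r • m) ∈ Submodule.span P.ResidueField (Set.range fun i => g (s i)) := by
        have : Submodule.span A (Set.range s) ≤
            ((Submodule.span P.ResidueField (Set.range fun i => g (s i))).restrictScalars A).comap g := by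
          rw [Submodule.span_le]
          rintro _ ⟨i, rfl⟩
          exact Submodule.subset_span ⟨i, rfl⟩
        exact this hrm
      rw [map_smul, ← algebraMap_smul P.ResidueField r] at h1
      have hr0 : algebraMap A P.ResidueField r ≠ 0 := by
        rwa [ne_eq, Ideal.algebraMap_residueField_eq_zero]
      have h2 := (Submodule.smul_mem_iff _ hr0).mp h1
      rw [show (c ⊗ₜ[A] m : P.ResidueField ⊗[A] M) = c • g m from
        (by rw [TensorProduct.mk_apply, TensorProduct.smul_tmul', smul_eq_mul, mul_one])]
      exact Submodule.smul_mem _ c h2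
  calc Module.finrank P.ResidueField (P.ResidueField ⊗[A] M)
      = (Set.range fun i => g (s i)).finrank P.ResidueField := by
        rw [Set.finrank, htop, finrank_top]
    _ ≤ Fintype.card (Fin d) := finrank_range_le_card _
    _ = d := Fintype.card_fin d

variable (k : Type u) [Field k] [IsAlgClosed k] (A : Type u) [CommRing A] [Algebra k A]
  [Algebra.FiniteType k A]

/-- The value of a function at a rational point. -/
theorem exists_const (m : Ideal A) [m.IsMaximal] (a : A) : ∃ c : k, a - algebraMap k A c ∈ m := by
  letI := Ideal.Quotient.field m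
  haveI : Algebra.FiniteType k (A ⧸ m) :=
    Algebra.FiniteType.of_surjective (Ideal.Quotient.mkₐ k m) Ideal.Quotient.mk_surjective
  haveI : Module.Finite k (A ⧸ m) := finite_of_finite_type_of_isJacobsonRing k (A ⧸ m)
  obtain ⟨c, hc⟩ := (IsAlgClosed.algebraMap_bijective_of_isIntegral (k := k) (K := A ⧸ m)).2
    (Ideal.Quotient.mk m a)
  exact ⟨c, Ideal.Quotient.eq.mp hc.symm⟩

include k in
theorem height_maximal (hirr : (nilradical A).IsPrime) {n : ℕ} (hn : ringKrullDim A = n)
    (m : Ideal A) [hm : m.IsMaximal] : ringKrullDim (Localization.AtPrime m) = n := by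
  haveI := hirr
  let B := A ⧸ nilradical A
  haveI : Algebra.FiniteType k B :=
    Algebra.FiniteType.of_surjective (Ideal.Quotient.mkₐ k _) Ideal.Quotient.mk_surjective
  let e : PrimeSpectrum B ≃o PrimeSpectrum A :=
    (Ideal.primeSpectrumQuotientOrderIsoZeroLocus (nilradical A)).trans
      { toFun := fun p => p.1
        invFun := fun p => ⟨p, (PrimeSpectrum.mem_zeroLocus _ _).mpr (nilradical_le_prime p.asIdeal)⟩
        left_inv := fun _ => rfl
        right_inv := fun _ => rfl
        map_rel_iff' := Iff.rfl }
  have hB : ringKrullDim B = n := by rw [ringKrullDim, Order.krullDim_eq_of_orderIso e]; exact hn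
  rw [IsLocalization.AtPrime.ringKrullDim_eq_height m,
    show m.height = Order.height (⟨m, inferInstance⟩ : PrimeSpectrum A) from PrimeSpectrum.height_eq_orderHeight ⟨m, inferInstance⟩]
  let p : PrimeSpectrum A := ⟨m, inferInstance⟩
  show ((Order.height p : ℕ∞) : WithBot ℕ∞) = n
  have h := Groth.Agent.VarDim.height_add_coheight_nat k B (e.symm p)
  have hco : Order.coheight (e.symm p) = 0 := by
    rw [Order.coheight_orderIso e.symm p, Order.coheight_eq_zero]
    intro r hr
    exact (PrimeSpectrum.ext (hm.eq_of_le r.isPrime.ne_top hr)).ge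
  rw [hco, add_zero, Order.height_orderIso e.symm p] at h
  rw [h]
  rw [Groth.Agent.VarDim.ringKrullDim_eq_tdeg k B] at hB
  exact hB

theorem ringKrullDim_quotient_nilradical' (A : Type u) [CommRing A] :
    ringKrullDim (A ⧸ nilradical A) = ringKrullDim A := by
  let e : PrimeSpectrum (A ⧸ nilradical A) ≃o PrimeSpectrum A :=
    (Ideal.primeSpectrumQuotientOrderIsoZeroLocus (nilradical A)).trans
      { toFun := fun p => p.1
        invFun := fun p => ⟨p, (PrimeSpectrum.mem_zeroLocus _ _).mpr (nilradical_le_prime p.asIdeal)⟩
        left_inv := fun _ => rfl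
        right_inv := fun _ => rfl
        map_rel_iff' := Iff.rfl }
  rw [ringKrullDim, Order.krullDim_eq_of_orderIso e]
  rfl

theorem isRegularLocalRing_of_finrank (hirr : (nilradical A).IsPrime) {n : ℕ}
    (hn : ringKrullDim A = n) (m : Ideal A) [m.IsMaximal]
    (h : Module.finrank m.ResidueField (m.ResidueField ⊗[A] Ω[A⁄k]) = n) :
    IsRegularLocalRing (Localization.AtPrime m) := by
  classical
  haveI : IsNoetherianRing A := Algebra.FiniteType.isNoetherianRing k A
  choose c hc using exists_const k A m
  have hone : ∀ x : k, algebraMap k A x ∈ m → x = 0 := fun x hx => by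
    by_contra hx0
    exact ‹m.IsMaximal›.ne_top (Ideal.eq_top_of_isUnit_mem _ hx ((isUnit_iff_ne_zero.mpr hx0).map _))
  have hcu : ∀ a x, a - algebraMap k A x ∈ m → c a = x := fun a x hx => by
    refine sub_eq_zero.mp (hone _ ?_)
    rw [map_sub]
    simpa using m.sub_mem hx (hc a)
  have cadd : ∀ a b, c (a + b) = c a + c b := fun a b => hcu _ _ (by
    rw [map_add, show a + b - (algebraMap k A (c a) + algebraMap k A (c b)) =
      (a - algebraMap k A (c a)) + (b - algebraMap k A (c b)) by ring]
    exact m.add_mem (hc a) (hc b))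
  have csmul : ∀ (x : k) a, c (algebraMap k A x * a) = x * c a := fun x a => hcu _ _ (by
    rw [map_mul, ← mul_sub]; exact m.mul_mem_left _ (hc a))
  have cC : ∀ x : k, c (algebraMap k A x) = x := fun x => hcu _ _ (by simp)
  have cmem : ∀ a, a ∈ m → c a = 0 := fun a ha => hcu _ _ (by simpa using ha)
  let κ : ∀ a, m := fun a => ⟨a - algebraMap k A (c a), hc a⟩
  have hkill : ∀ (r : A), r ∈ m → ∀ z : m.Cotangent, r • z = 0 := fun r hr z => by
    obtain ⟨y, rfl⟩ := m.toCotangent_surjective z
    rw [← map_smul, Ideal.toCotangent_eq_zero]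
    show r • (y : A) ∈ m ^ 2
    rw [pow_two]
    exact Ideal.mul_mem_mul hr y.2
  let δ : Derivation k A m.Cotangent :=
    { toFun := fun a => m.toCotangent (κ a)
      map_add' := fun a b => by
        rw [← map_add]; congr 1; apply Subtype.ext
        show a + b - algebraMap k A (c (a + b)) = _
        rw [cadd, map_add]; show _ = (a - _) + (b - _); ring
      map_smul' := fun x a => by
        rw [RingHom.id_apply, ← algebraMap_smul A x (m.toCotangent (κ a)), ← map_smul]
        congr 1; apply Subtype.ext
        show x • a - algebraMap k A (c (x • a)) = algebraMap k A x * (a - algebraMap k A (c a))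
        rw [Algebra.smul_def, csmul, map_mul]; ring
      map_one_eq_zero' := by
        show m.toCotangent (κ 1) = 0
        rw [show κ 1 = 0 from Subtype.ext (by
          show (1 : A) - algebraMap k A (c 1) = 0
          rw [show (1 : A) = algebraMap k A 1 from (map_one _).symm, cC, sub_self]), map_zero]
      leibniz' := fun a b => by
        show m.toCotangent (κ (a * b)) = a • m.toCotangent (κ b) + b • m.toCotangent (κ a)
        rw [← map_smul, ← map_smul, ← map_add, Ideal.toCotangent_eq]
        show a * b - algebraMap k A (c (a * b)) - (a * (b - algebraMap k A (c b)) + b * (a - algebraMap k A (c a))) ∈ m ^ 2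
        have hab : c (a * b) = c a * c b := hcu _ _ (by
          rw [map_mul, show a * b - algebraMap k A (c a) * algebraMap k A (c b) =
            a * (b - algebraMap k A (c b)) + algebraMap k A (c b) * (a - algebraMap k A (c a)) by ring]
          exact m.add_mem (m.mul_mem_left _ (hc b)) (m.mul_mem_left _ (hc a)))
        rw [hab, map_mul, show a * b - algebraMap k A (c a) * algebraMap k A (c b) -
          (a * (b - algebraMap k A (c b)) + b * (a - algebraMap k A (c a))) =
          -((a - algebraMap k A (c a)) * (b - algebraMap k A (c b))) by ring, pow_two]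
        exact neg_mem (Ideal.mul_mem_mul (hc a) (hc b)) }
  let φ : Ω[A⁄k] →ₗ[A] m.Cotangent := δ.liftKaehlerDifferential
  obtain ⟨s, hs⟩ := exists_generators (M := Ω[A⁄k]) m
  choose x hx using fun i => m.toCotangent_surjective (φ (s i))
  let S := Localization.AtPrime m
  let N : Ideal S := Ideal.span (Set.range fun i => algebraMap A S (x i : A))
  have hmem : ∀ y : m, algebraMap A S (y : A) ∈ N ⊔ (IsLocalRing.maximalIdeal S) • (IsLocalRing.maximalIdeal S) := by
    intro y
    obtain ⟨r, hr, hry⟩ := hs (KaehlerDifferential.D k A y)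
    have h1 : φ (r • KaehlerDifferential.D k A y) ∈ Submodule.span A (Set.range fun i => m.toCotangent (x i)) := by
      have : Submodule.span A (Set.range s) ≤
          (Submodule.span A (Set.range fun i => m.toCotangent (x i))).comap φ := by
        rw [Submodule.span_le]
        rintro _ ⟨i, rfl⟩
        exact Submodule.subset_span ⟨i, hx i⟩
      exact this hry
    rw [map_smul, Derivation.liftKaehlerDifferential_comp_D] at h1
    obtain ⟨f, hf⟩ := (Submodule.mem_span_range_iff_exists_fun A).mp h1
    have hy : κ y = y := Subtype.ext (by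
      show (y : A) - algebraMap k A (c y) = y
      rw [cmem y y.2, map_zero, sub_zero])
    change ∑ i, f i • m.toCotangent (x i) = r • m.toCotangent (κ y) at hf
    rw [hy] at hf
    simp only [← map_smul, ← map_sum, Ideal.toCotangent_eq] at hf
    have hu : IsUnit (algebraMap A S r) := IsLocalization.map_units S (⟨r, hr⟩ : m.primeCompl)
    rw [← Ideal.unit_mul_mem_iff_mem _ hu, ← map_mul]
    have hsplit : r * (y : A) = (∑ i, f i * (x i : A)) - ((∑ i, f i * (x i : A)) - r * (y : A)) := by ring
    rw [hsplit, map_sub]
    refine Ideal.sub_mem _ (Submodule.mem_sup_left ?_) (Submodule.mem_sup_right ?_)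
    · rw [map_sum]
      exact N.sum_mem fun i _ => by rw [map_mul]; exact N.mul_mem_left _ (Ideal.subset_span ⟨i, rfl⟩)
    · have : ((∑ i, f i * (x i : A)) - r * (y : A)) ∈ m ^ 2 := by simpa using hf
      rw [smul_eq_mul, ← pow_two, ← Localization.AtPrime.map_eq_maximalIdeal, ← Ideal.map_pow]
      exact Ideal.mem_map_of_mem _ this
  have hle : IsLocalRing.maximalIdeal S ≤ N := by
    refine Submodule.le_of_le_smul_of_le_jacobson_bot (IsNoetherian.noetherian _)
      (IsLocalRing.maximalIdeal_le_jacobson _) ?_
    conv_lhs => rw [← Localization.AtPrime.map_eq_maximalIdeal, Ideal.map]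
    rw [Ideal.span_le]
    rintro _ ⟨y, hy, rfl⟩
    exact hmem ⟨y, hy⟩
  have hge : N ≤ IsLocalRing.maximalIdeal S := Ideal.span_le.mpr (by
    rintro _ ⟨i, rfl⟩
    rw [← Localization.AtPrime.map_eq_maximalIdeal]
    exact Ideal.mem_map_of_mem _ (x i).2)
  apply IsRegularLocalRing.of_spanFinrank_maximalIdeal_le
  rw [height_maximal k A hirr hn m, hle.antisymm hge]
  refine Nat.cast_le.mpr ?_
  calc N.spanFinrank ≤ (Set.range fun i => algebraMap A S (x i : A)).ncard :=
        Submodule.spanFinrank_span_le_ncard_of_finite (Set.finite_range _)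
    _ ≤ _ := by
        rw [← Set.image_univ]
        refine (Set.ncard_image_le Set.finite_univ).trans ?_
        rw [Set.ncard_univ, Nat.card_fin, h]

theorem finrank_le_of_regular (hirr : (nilradical A).IsPrime) {n : ℕ}
    (hn : ringKrullDim A = n) (m : Ideal A) [m.IsMaximal] [hreg : IsRegularLocalRing (Localization.AtPrime m)] :
    Module.finrank m.ResidueField (m.ResidueField ⊗[A] Ω[A⁄k]) ≤ n := by
  classical
  haveI : IsNoetherianRing A := Algebra.FiniteType.isNoetherianRing k A
  choose c hc using exists_const k A m
  let S := Localization.AtPrime m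
  have hsp : (IsLocalRing.maximalIdeal S).spanFinrank = n := by
    exact_mod_cast hreg.spanFinrank_maximalIdeal.trans (height_maximal k A hirr hn m)
  obtain ⟨gens, hcard, hspan⟩ :=
    Submodule.FG.exists_span_finset_card_eq_spanFinrank (IsNoetherian.noetherian (IsLocalRing.maximalIdeal S))
  let e : Fin n ≃ gens := (gens.equivFinOfCardEq (hcard.trans hsp)).symm
  choose x hx using fun i => IsLocalization.surj m.primeCompl ((e i : S))
  have hxS : ∀ i, ((e i : S)) * algebraMap A S ((x i).2 : A) = algebraMap A S (x i).1 := hx
  let I : Ideal A := Ideal.span (Set.range fun i => (x i).1)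
  have hxm : ∀ i, (x i).1 ∈ m := fun i => by
    have : algebraMap A S (x i).1 ∈ IsLocalRing.maximalIdeal S := by
      rw [← hxS i]
      refine Ideal.mul_mem_right _ _ ?_
      rw [← hspan]
      exact Submodule.subset_span (e i).2
    exact (IsLocalization.AtPrime.to_map_mem_maximal_iff S m _).mp this
  have hI : ∀ a ∈ m, ∃ t ∉ m, t * a ∈ I := by
    intro a ha
    have hmap : (algebraMap A S a) ∈ I.map (algebraMap A S) := by
      have hle : IsLocalRing.maximalIdeal S ≤ I.map (algebraMap A S) := by
        rw [← hspan]
        refine Ideal.span_le.mpr fun g hg => ?_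
        obtain ⟨i, hi⟩ := e.surjective ⟨g, hg⟩
        have hu : IsUnit (algebraMap A S ((x i).2 : A)) := IsLocalization.map_units S (x i).2
        rw [SetLike.mem_coe, ← Ideal.mul_unit_mem_iff_mem _ hu, show g = (e i : S) by rw [hi], hxS i]
        exact Ideal.mem_map_of_mem _ (Ideal.subset_span ⟨i, rfl⟩)
      exact hle ((IsLocalization.AtPrime.to_map_mem_maximal_iff S m _).mpr ha)
    obtain ⟨t, ht, h⟩ := (IsLocalization.algebraMap_mem_map_algebraMap_iff m.primeCompl S I a).mp hmap
    exact ⟨t, ht, h⟩
  let d := KaehlerDifferential.D k A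
  let Nd : Submodule A (Ω[A⁄k]) :=
    Submodule.span A (Set.range fun i => d (x i).1) ⊔ m • (⊤ : Submodule A (Ω[A⁄k]))
  have hd : ∀ a, d a ∈ Nd := by
    have hdI : ∀ z ∈ I, d z ∈ Nd := by
      intro z hz
      induction hz using Submodule.span_induction with
      | mem z hz =>
        obtain ⟨i, rfl⟩ := hz
        exact Submodule.mem_sup_left (Submodule.subset_span ⟨i, rfl⟩)
      | zero => rw [map_zero]; exact Nd.zero_mem
      | add z w _ _ hz hw => rw [map_add]; exact Nd.add_mem hz hw
      | smul r z hzI hz =>
        rw [smul_eq_mul, Derivation.leibniz]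
        refine Nd.add_mem (Nd.smul_mem _ hz) (Submodule.mem_sup_right (Submodule.smul_mem_smul ?_ trivial))
        exact (Ideal.span_le.mpr (by rintro _ ⟨i, rfl⟩; exact hxm i)) hzI
    intro a
    obtain ⟨t, ht, hta⟩ := hI _ (hc a)
    have h1 := hdI _ hta
    rw [Derivation.leibniz] at h1
    have h2 : (a - algebraMap k A (c a)) • d t ∈ Nd :=
      Submodule.mem_sup_right (Submodule.smul_mem_smul (hc a) trivial)
    have h3 : t • d (a - algebraMap k A (c a)) ∈ Nd := by
      have := Nd.sub_mem h1 h2
      simpa [d] using this
    rw [map_sub, Derivation.map_algebraMap, sub_zero] at h3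
    have h4 : t - algebraMap k A (c t) ∈ m := hc t
    have hct : c t ≠ 0 := fun h0 => ht (by simpa [h0] using h4)
    have h5 : algebraMap k A (c t) • d a ∈ Nd := by
      have := Nd.sub_mem h3 (Submodule.mem_sup_right (Submodule.smul_mem_smul h4 (Submodule.mem_top (x := d a))))
      rw [← sub_smul, sub_sub_cancel] at this
      exact this
    rw [algebraMap_smul] at h5
    exact (Submodule.smul_mem_iff _ hct).mp h5
  let g : Ω[A⁄k] →ₗ[A] m.ResidueField ⊗[A] Ω[A⁄k] := TensorProduct.mk A m.ResidueField _ 1
  let W := Submodule.span m.ResidueField (Set.range fun i => g (d (x i).1))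
  have hW : ∀ ω, g ω ∈ W := by
    intro ω
    have hω : ω ∈ Nd := by
      have : Submodule.span A (Set.range d) ≤ Nd := Submodule.span_le.mpr (by rintro _ ⟨a, rfl⟩; exact hd a)
      exact this (KaehlerDifferential.span_range_derivation k A ▸ Submodule.mem_top)
    obtain ⟨u, hu, v, hv, rfl⟩ := Submodule.mem_sup.mp hω
    rw [map_add]
    refine W.add_mem ?_ ?_
    · have : Submodule.span A (Set.range fun i => d (x i).1) ≤ (W.restrictScalars A).comap g := by
        rw [Submodule.span_le]
        rintro _ ⟨i, rfl⟩
        exact Submodule.subset_span ⟨i, rfl⟩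
      exact this hu
    · have : m • (⊤ : Submodule A (Ω[A⁄k])) ≤ LinearMap.ker g := by
        rw [Submodule.smul_le]
        intro r hr z _
        show g (r • z) = 0
        rw [map_smul, ← algebraMap_smul m.ResidueField r, Ideal.algebraMap_residueField_eq_zero.mpr hr, zero_smul]
      rw [LinearMap.mem_ker.mp (this hv)]
      exact W.zero_mem
  have htop : W = ⊤ := by
    rw [eq_top_iff]
    intro v _
    induction v using TensorProduct.induction_on with
    | zero => exact W.zero_mem
    | add a b ha hb => exact W.add_mem (ha trivial) (hb trivial)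
    | tmul r ω =>
      rw [show (r ⊗ₜ[A] ω : m.ResidueField ⊗[A] Ω[A⁄k]) = r • g ω from
        (by rw [TensorProduct.mk_apply, TensorProduct.smul_tmul', smul_eq_mul, mul_one])]
      exact W.smul_mem _ (hW ω)
  calc Module.finrank m.ResidueField (m.ResidueField ⊗[A] Ω[A⁄k])
      = (Set.range fun i => g (d (x i).1)).finrank m.ResidueField := by
        rw [Set.finrank, show Submodule.span _ _ = ⊤ from htop, finrank_top]
    _ ≤ Fintype.card (Fin n) := finrank_range_le_card _
    _ = n := Fintype.card_fin n

theorem regular_iff (hirr : (nilradical A).IsPrime) (n : ℕ) (hn : ringKrullDim A = n) :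
    (IsReduced A ∧ IsRegularRing A) ↔
      (Module.Projective A (Ω[A⁄k]) ∧
        ∀ (P : Ideal A) [P.IsPrime],
          Module.finrank P.ResidueField (P.ResidueField ⊗[A] Ω[A⁄k]) = n) := by
  classical
  haveI : IsNoetherianRing A := Algebra.FiniteType.isNoetherianRing k A
  haveI : Algebra.FinitePresentation k A := Algebra.FinitePresentation.of_finiteType.mp ‹_›
  constructor
  · rintro ⟨-, hreg⟩
    haveI : Algebra.Smooth k A := by
      refine ⟨Algebra.smoothLocus_eq_univ_iff.mp (Set.eq_univ_iff_forall.mpr fun q => ?_), inferInstance⟩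
      haveI := IsRegularRing.isRegularLocalRing_localization (R := A) q.asIdeal
      haveI : Algebra.EssFiniteType k q.asIdeal.ResidueField := .comp k A _
      exact Groth.Agent.RegSmooth17.isSmoothAt_of_isRegularLocalRing k A q.asIdeal
    refine ⟨inferInstance, fun P _ => le_antisymm ?_ (main A n P (nilradical A) (nilradical_le_prime P) ?_)⟩
    · obtain ⟨m, hm, hPm⟩ := Ideal.exists_le_maximal P ‹P.IsPrime›.ne_top
      haveI := hm
      haveI := IsRegularRing.isRegularLocalRing_localization (R := A) m
      obtain ⟨s, hs⟩ := exists_generators (M := Ω[A⁄k]) m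
      exact (finrank_le P s fun ω => (hs ω).imp fun r hr => ⟨fun h => hr.1 (hPm h), hr.2⟩).trans
        (finrank_le_of_regular k A hirr hn m)
    · exact (hn.symm.trans (ringKrullDim_quotient_nilradical' A).symm).le
  · rintro ⟨-, h⟩
    have hmax : ∀ (m : Ideal A) [m.IsMaximal], IsRegularLocalRing (Localization.AtPrime m) :=
      fun m _ => isRegularLocalRing_of_finrank k A hirr hn m (h m)
    refine ⟨isReduced_ofLocalizationMaximal A fun m _ => ?_, ?_⟩
    · haveI := hmax m
      haveI := Groth.Agent.RegLoc.isDomain (Localization.AtPrime m)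
      infer_instance
    · exact Groth.Agent.RegCpl3.isRegularRing_of_maximal fun m hm => hmax m

end OmegaRank13
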